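import Cfsg.Agent.Lib.Spor.Leech.OddFix.Setup
import Cfsg.Agent.Lib.Spor.Leech.ThreeFix.Gens
import Cfsg.Agent.Lib.Spor.Golay.AutSearch
import Cfsg.Agent.Lib.Spor.Golay.PermConj
import Mathlib.GroupTheory.SpecificGroups.Alternating.Simple

/-!
The centraliser in the rank 24 lattice automorphisms of a fixed-point-free coordinate permutation of order three,
modulo that permutation and negation, is the alternating group of degree nine.
-/

set_option autoImplicit false
set_option maxRecDepth 100000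
set_option linter.style.haveILetI false

noncomputable section

namespace Cfsg.Agent.Spor.Leech.ThreeFix

open Cfsg Cfsg.Agent.Spor.Leech.OddFix
open Cfsg.Agent.Spor.CoSuz (decV HasT)
open scoped Pointwise

/-- The fourteen sets of four. -/
def Qs : Finset (Finset (Fin 9)) :=
  (quadL.map fun l => (l.map fun i => ((⟨i % 9, Nat.mod_lt _ (by norm_num)⟩ : Fin 9))).toFinset).toFinset

/-- The permutation keeps the sets of four. -/
def Keep (π : Equiv.Perm (Fin 9)) : Prop := Qs.image (fun q => q.image π) = Qs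

instance (π : Equiv.Perm (Fin 9)) : Decidable (Keep π) := by unfold Keep; infer_instance

theorem Keep.mul {π σ : Equiv.Perm (Fin 9)} (h : Keep π) (h' : Keep σ) : Keep (π * σ) := by
  unfold Keep at *
  conv_rhs => rw [← h, ← h', Finset.image_image]
  refine Finset.image_congr fun q _ => ?_
  rw [Function.comp_apply, Finset.image_image]
  rfl

theorem Keep.one : Keep 1 := by
  unfold Keep
  simp [Equiv.Perm.coe_one]

theorem Keep.inv {π : Equiv.Perm (Fin 9)} (h : Keep π) : Keep π⁻¹ := by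
  unfold Keep at *
  conv_lhs => rw [← h, Finset.image_image]
  conv_rhs => rw [← Finset.image_id (s := Qs)]
  refine Finset.image_congr fun q _ => ?_
  rw [Function.comp_apply, Finset.image_image, id_eq]
  conv_rhs => rw [← Finset.image_id (s := q)]
  exact Finset.image_congr fun i _ => by simp

/-- An entry of the list of commuting permutations. -/
def rEntry (i : ℕ) : ℕ × ℕ × ℕ × ℕ := gR.getD i (0, 0, 0, 0)

/-- A generator. -/
def gEntry (k : ℕ) : ℕ × List ℕ × ℕ := gG.getD k (0, [], 0)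

/-- A sign change. -/
def cEntry (k : ℕ) : ℕ × List ℕ × ℕ := gC.getD k (0, [], 0)

/-- The list of commuting permutations is generated. -/
def chkRTree : Bool :=
  (List.range 504).all fun i => if i = 0 then Nat.beq (rEntry i).1 Golay.idP && decide (p9 (rEntry i).2.1 = 1)
    else decide ((rEntry i).2.2.1 < 3) && decide ((rEntry i).2.2.2 < i) &&
      Nat.beq (rEntry i).1 (Golay.comp (gEntry (rEntry i).2.2.1).1 (rEntry (rEntry i).2.2.2).1) &&
      decide (p9 (rEntry i).2.1 = p9 (gEntry (rEntry i).2.2.1).2.2 * p9 (rEntry (rEntry i).2.2.2).2.1)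

theorem rtree_check : chkRTree = true := by decide +kernel

theorem stab_cover : ((Golay.PermConj.conjList0 g3 (Golay.PermConj.pw g3 1)).all fun R =>
    (List.range 21).any fun l => Nat.beq R (rEntry (fixL.getD l 0)).1) = true := by decide +kernel

/-- The list is closed under the two-step decomposition. -/
def chkProd : Bool :=
  (List.range 24).all fun j => Nat.blt (transL.getD j 0) 504 && Nat.beq (Golay.get (rEntry (transL.getD j 0)).1 0) j &&
    (List.range 21).all fun l => Nat.blt (prodL.getD (21 * j + l) 0) 504 &&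
      Nat.beq (Golay.comp (rEntry (transL.getD j 0)).1 (rEntry (fixL.getD l 0)).1)
        (rEntry (prodL.getD (21 * j + l) 0)).1

theorem prod_check : chkProd = true := by decide +kernel

theorem fixL_lt : ∀ l < 21, fixL.getD l 0 < 504 := by decide +kernel

theorem lens : gR.length = 504 ∧ gG.length = 3 ∧ gC.length = 16 ∧ tree.length = 135 := by decide +kernel

theorem keep_check : (gG.all fun x => decide (Keep (p9 x.2.2))) = true ∧
    (gC.all fun x => decide (Keep (p9 x.2.2))) = true := by decide +kernel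

theorem gEntry_mem {k : ℕ} (hk : k < 3) : gEntry k ∈ gG := by
  rw [gEntry, List.getD_eq_getElem _ _ (lens.2.1 ▸ hk)]
  exact List.getElem_mem _

theorem cEntry_mem {k : ℕ} (hk : k < 16) : cEntry k ∈ gC := by
  rw [cEntry, List.getD_eq_getElem _ _ (lens.2.2.1 ▸ hk)]
  exact List.getElem_mem _

theorem gR_spec : ∀ i < 504, ∃ g : Cent P0, Golay.valid (rEntry i).1 = true ∧
    (∃ h : Golay.permOf (rEntry i).1 ∈ M24, (g : Co0) = mono h empty_code) ∧ Maps g (p9 (rEntry i).2.1) ∧
      p9 (rEntry i).2.1 ∈ alternatingGroup (Fin 9) ∧ Keep (p9 (rEntry i).2.1) := by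
  intro i
  induction i using Nat.strong_induction_on with
  | _ i ih =>
    intro hi
    have h := List.all_eq_true.1 rtree_check i (List.mem_range.2 hi)
    by_cases h0 : i = 0
    · rw [if_pos h0] at h
      simp only [Bool.and_eq_true, Nat.beq_eq, decide_eq_true_eq] at h
      refine ⟨1, by rw [h.1]; exact Golay.valid_idP, ⟨by rw [h.1, Golay.permOf_idP]; exact one_mem _, ?_⟩,
        h.2 ▸ Maps.one, h.2 ▸ one_mem _, h.2 ▸ Keep.one⟩
      refine ext_axis fun q => ?_
      rw [OneMemClass.coe_one, one_smul, mono_axis, if_neg (Finset.notMem_empty _), h.1, Golay.permOf_idP,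
        Equiv.Perm.one_apply]
    · rw [if_neg h0] at h
      simp only [Bool.and_eq_true, Nat.beq_eq, decide_eq_true_eq] at h
      obtain ⟨⟨⟨hk, hlt⟩, hR⟩, hp⟩ := h
      obtain ⟨g, hv, ⟨hm, hg⟩, hgm, hgw, hgk⟩ := ih _ hlt (by omega)
      obtain ⟨k, ⟨hmk, hke⟩, -, hkm, hkw⟩ := gG_spec (gEntry_mem hk)
      have hvk := Golay.PermConj.valid_of_inM24 (by
        have h1 := List.all_eq_true.1 gG_check _ (gEntry_mem hk)
        simp only [chkG, Bool.and_eq_true] at h1
        exact h1.1.1.1.1)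
      have hvv := Golay.valid_comp hvk hv
      refine ⟨k * g, hR ▸ hvv, ⟨by rw [hR, Golay.permOf_comp hvk hv]; exact mul_mem hmk hm, ?_⟩,
        hp ▸ hkm.mul hgm, hp ▸ mul_mem hkw hgw,
        hp ▸ (of_decide_eq_true (List.all_eq_true.1 keep_check.1 _ (gEntry_mem hk)) : Keep _).mul hgk⟩
      refine ext_axis fun q => ?_
      rw [Subgroup.coe_mul, hg, hke, mono_empty_mul, mono_axis, mono_axis, hR, Golay.permOf_comp hvk hv]

/-- The columns of the generators used on classes. -/
def genM (k : ℕ) : List ℕ :=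
  if k < 3 then (gEntry k).2.1 else if k < 19 then (cEntry (k - 3)).2.1 else gT.1

/-- The action of the generators used on classes. -/
def genP (k : ℕ) : ℕ :=
  if k < 3 then (gEntry k).2.2 else if k < 19 then (cEntry (k - 3)).2.2 else gT.2

theorem gen_spec (k : ℕ) : ∃ g : Cent P0, Cols g (genM k) ∧ Maps g (p9 (genP k)) ∧
    p9 (genP k) ∈ alternatingGroup (Fin 9) := by
  by_cases h1 : k < 3
  · simp only [genM, genP, if_pos h1]
    obtain ⟨g, -, h⟩ := gG_spec (gEntry_mem h1)
    exact ⟨g, h⟩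
  · by_cases h2 : k < 19
    · simp only [genM, genP, if_neg h1, if_pos h2]
      obtain ⟨g, -, h⟩ := gC_spec (cEntry_mem (k := k - 3) (by omega))
      exact ⟨g, h⟩
    · simp only [genM, genP, if_neg h1, if_neg h2]
      exact gT_spec

/-- An entry. -/
def entry (i : ℕ) : ℕ × ℕ × ℕ × ℕ := tree.getD i (0, 0, 0, 0)

theorem tree_check : ((List.range 135).all fun i =>
    if i = 0 then decide ((entry i).1 = ax) && decide (p9 (entry i).2.2.2 = 1)
    else decide ((entry i).2.2.1 < i) && Nat.beq (mapM (genM (entry i).2.1) (entry (entry i).2.2.1).1) (entry i).1 &&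
      decide (p9 (entry i).2.2.2 = p9 (genP (entry i).2.1) * p9 (entry (entry i).2.2.1).2.2.2)) = true := by
  decide +kernel

theorem tree_spec : ∀ i < 135, ∃ g : Cent P0, co Bs Gi ((g : Co0) • axis none) = bits (entry i).1 ∧
    Maps g (p9 (entry i).2.2.2) ∧ p9 (entry i).2.2.2 ∈ alternatingGroup (Fin 9) := by
  intro i
  induction i using Nat.strong_induction_on with
  | _ i ih =>
    intro hi
    have h := List.all_eq_true.1 tree_check i (List.mem_range.2 hi)
    by_cases h0 : i = 0
    · rw [if_pos h0] at h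
      simp only [Bool.and_eq_true, decide_eq_true_eq] at h
      exact ⟨1, by rw [h.1, OneMemClass.coe_one, one_smul, axis_co], h.2 ▸ Maps.one, h.2 ▸ one_mem _⟩
    · rw [if_neg h0] at h
      simp only [Bool.and_eq_true, Nat.beq_eq, decide_eq_true_eq] at h
      obtain ⟨⟨hlt, hm⟩, hp⟩ := h
      obtain ⟨g, hg, hgm, hgw⟩ := ih _ hlt (by omega)
      obtain ⟨k, hk, hkm, hkw⟩ := gen_spec (entry i).2.1
      refine ⟨k * g, ?_, hp ▸ hkm.mul hgm, hp ▸ mul_mem hkw hgw⟩
      rw [Subgroup.coe_mul, mul_smul, A_mulVec k (fixed_smul g (axis_fixed none)), hg, hk.mulVec, hm]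

theorem cent_of_valid {A : ℕ} {g : Cent P0} (h : ∃ h : Golay.permOf A ∈ M24, (g : Co0) = mono h empty_code) :
    Golay.permOf A ∈ M24 ∧ Golay.permOf A * gen = gen * Golay.permOf A := by
  obtain ⟨hm, he⟩ := h
  have h := mem_Cent.1 g.2
  rw [he, P0, mono_empty_mul, mono_empty_mul] at h
  exact ⟨hm, (mono_inj _ _ _ _ h).1⟩

theorem reduce_first {A : ℕ} (hv : Golay.valid A = true) (hm : Golay.permOf A ∈ M24)
    (hc : Golay.permOf A * gen = gen * Golay.permOf A) {n : Equiv.Perm GolayPt} (hn : n ∈ M24)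
    (e : n * gen = gen * n) (h0 : Golay.get A 0 = Golay.idx (n (Golay.pt 0))) :
    ∃ R ∈ Golay.PermConj.conjList0 g3 (Golay.PermConj.pw g3 1), Golay.permOf A * Golay.permOf R = n := by
  have hπ0 : Golay.permOf A (Golay.pt 0) = n (Golay.pt 0) := Golay.idx_injective (by
    rw [Golay.idx_permOf hv, Golay.idx_pt (by norm_num : 0 < 24), h0])
  obtain ⟨R, hR, eR⟩ := Golay.PermConj.mem_conjList0 g3_checks.2.1 (k := 1) (n := (Golay.permOf A)⁻¹ * n)
    (mul_mem (inv_mem hm) hn) (by
      rw [pow_one]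
      show (Golay.permOf A)⁻¹ * n * gen = gen * ((Golay.permOf A)⁻¹ * n)
      rw [mul_assoc, e, ← mul_assoc, ← mul_assoc, (show Commute (Golay.permOf A) gen from hc).inv_left.eq])
    (by rw [Equiv.Perm.mul_apply, ← hπ0, Equiv.Perm.inv_def, Equiv.symm_apply_apply])
  exact ⟨R, hR, by rw [eR, mul_inv_cancel_left]⟩

theorem prod_spec {j : ℕ} (hj : j < 24) : transL.getD j 0 < 504 ∧ Golay.get (rEntry (transL.getD j 0)).1 0 = j ∧
    ∀ l < 21, prodL.getD (21 * j + l) 0 < 504 ∧
      Golay.comp (rEntry (transL.getD j 0)).1 (rEntry (fixL.getD l 0)).1 = (rEntry (prodL.getD (21 * j + l) 0)).1 := by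
  have h := List.all_eq_true.1 prod_check j (List.mem_range.2 hj)
  rw [Bool.and_eq_true, Bool.and_eq_true] at h
  obtain ⟨⟨h1, h2⟩, h3⟩ := h
  refine ⟨of_eq_true (Eq.trans (eq_comm.1 Nat.blt_eq) (eq_true h1)), Nat.eq_of_beq_eq_true h2, fun l hl => ?_⟩
  have h4 := List.all_eq_true.1 h3 l (List.mem_range.2 hl)
  rw [Bool.and_eq_true] at h4
  exact ⟨of_eq_true (Eq.trans (eq_comm.1 Nat.blt_eq) (eq_true h4.1)), Nat.eq_of_beq_eq_true h4.2⟩

theorem cent_listed {n : Equiv.Perm GolayPt} (hn : n ∈ M24) (e : n * gen = gen * n) :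
    ∃ i < 504, Golay.permOf (rEntry i).1 = n := by
  obtain ⟨ht, h0, hl⟩ := prod_spec (Golay.idx_lt (n (Golay.pt 0)))
  obtain ⟨a, hva, ha, -⟩ := gR_spec _ ht
  obtain ⟨hma, hc⟩ := cent_of_valid ha
  obtain ⟨R, hR, eR⟩ := reduce_first hva hma hc hn e h0
  obtain ⟨l, hl21, hlR⟩ := List.any_eq_true.1 (List.all_eq_true.1 stab_cover R hR)
  rw [List.mem_range] at hl21
  obtain ⟨hlt, hprod⟩ := hl l hl21
  refine ⟨_, hlt, ?_⟩
  obtain ⟨-, hvl, -⟩ := gR_spec _ (fixL_lt l hl21)
  rw [← hprod, Golay.permOf_comp hva hvl, ← Nat.eq_of_beq_eq_true hlR, eR]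

/-- A member of the stabiliser of the standard cross as a product of the listed ones. -/
theorem exists_stab {h : Cent P0} (hs : (h : Co0) ∈ crossStab) : ∃ i < 504, ∃ k < 16,
    (∀ v : leechLattice, (((h : Co0) • v : leechLattice) : Vec) =
      signedPerm (Golay.permOf (rEntry i).1) (Golay.pts (cEntry k).1) (v : Vec)) ∧
      Maps h (p9 (cEntry k).2.2 * p9 (rEntry i).2.1) ∧
      p9 (cEntry k).2.2 * p9 (rEntry i).2.1 ∈ alternatingGroup (Fin 9) ∧
      Keep (p9 (cEntry k).2.2 * p9 (rEntry i).2.1) := by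
  obtain ⟨π, hπ, c, hcc, he⟩ := exists_mono hs
  have hc := mem_Cent.1 h.2
  obtain ⟨e1, e2⟩ := mono_mul_mono hπ gen_mem hcc
  rw [he, P0, e1, e2] at hc
  obtain ⟨hcomm, hce⟩ := mono_inj _ _ _ _ hc
  obtain ⟨i, hi, hxR⟩ := cent_listed hπ hcomm
  obtain ⟨m, hm, rfl⟩ := Golay.mem_supports.1 hcc
  have hm' : Golay.imgMask (Golay.get g3) m = m := by
    have hv := g3_checks.2.1
    refine Golay.pts_injOn (Golay.Aut.imgMask_lt hv m) (Golay.codeList_lt hm) ?_
    rw [← Golay.permOf_smul_pts hv]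
    exact hce.symm
  obtain ⟨y, hy, hym⟩ : ∃ y ∈ gC, y.1 = m := by
    have h1 := List.all_eq_true.1 gC_cover m hm
    rw [hm'] at h1
    simpa using h1
  obtain ⟨k, hk, rfl⟩ := List.getElem_of_mem hy
  rw [show gC[k] = cEntry k from (List.getD_eq_getElem _ _ hk).symm] at hym
  rw [lens.2.2.1] at hk
  obtain ⟨a, -, ⟨ha, ea⟩, hma, hwa, hka⟩ := gR_spec i hi
  obtain ⟨b, ⟨hb, eb⟩, -, hmb, hwb⟩ := gC_spec (cEntry_mem hk)
  have hh : h = b * a := Subtype.ext (by
    rw [Subgroup.coe_mul, ea, eb, (mono_mul_mono (one_mem M24) ha hb).1, he]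
    exact ext_axis fun i => by simp only [mono_axis, one_mul, hxR, hym])
  refine ⟨i, hi, k, hk, fun v => ?_, hh ▸ hmb.mul hma, mul_mem hwb hwa,
    (of_decide_eq_true (List.all_eq_true.1 keep_check.2 _ (cEntry_mem hk)) : Keep _).mul hka⟩
  rw [he, mono_apply, hxR, hym]

theorem decomp (g : Cent P0) : ∃ i < 135, ∃ h : Equiv.Perm (Fin 9),
    co Bs Gi ((g : Co0) • axis none) = bits (entry i).1 ∧ Keep h ∧ Maps g (p9 (entry i).2.2.2 * h) ∧
      p9 (entry i).2.2.2 * h ∈ alternatingGroup (Fin 9) := by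
  obtain ⟨x, hx, hco⟩ := frame_mask (fixed_smul g (axis_fixed none)) (by rw [co_norm, axis_norm])
  obtain ⟨i, hi, rfl⟩ := List.getElem_of_mem hx
  have hi' : i < 135 := lens.2.2.2 ▸ hi
  rw [show tree[i] = entry i from (List.getD_eq_getElem _ _ hi).symm] at hco
  obtain ⟨t, ht, htm, htw⟩ := tree_spec i hi'
  have hst : ((t⁻¹ * g : Cent P0) : Co0) ∈ crossStab := by
    rw [← stabC_eq_crossStab none, mem_stabC, Subgroup.coe_mul, Subgroup.coe_inv, mul_smul,
      congr_smul ((fix.co_inj (fixed_smul g (axis_fixed none)) (fixed_smul t (axis_fixed none))).1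
        (hco.trans ht.symm)), inv_smul_smul]
  obtain ⟨a, -, b, -, -, hm, hw, hk⟩ := exists_stab hst
  refine ⟨i, hi', _, hco, hk, ?_, mul_mem htw hw⟩
  have := htm.mul hm
  rwa [mul_inv_cancel_left] at this

theorem exists_maps (g : Cent P0) : ∃ π : alternatingGroup (Fin 9), Maps g (π : Equiv.Perm (Fin 9)) := by
  obtain ⟨i, -, x, -, -, h, hw⟩ := decomp g
  exact ⟨⟨_, hw⟩, h⟩

/-- The map onto the alternating group. -/
def rho : Cent P0 →* alternatingGroup (Fin 9) :=
  MonoidHom.mk' (fun g => (exists_maps g).choose) fun g h => Subtype.ext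
    ((exists_maps (g * h)).choose_spec.unique ((exists_maps g).choose_spec.mul (exists_maps h).choose_spec))

theorem rho_eq {g : Cent P0} {π : Equiv.Perm (Fin 9)} (h : Maps g π) : (rho g : Equiv.Perm (Fin 9)) = π :=
  (exists_maps g).choose_spec.unique h

theorem rho_fixes {g : Cent P0} (h : ∀ k, cls ((g : Co0) • Bs k) = cls (Bs k)) : rho g = 1 := by
  refine Subtype.ext (rho_eq fun j a ha => ?_)
  rwa [show A g = 1 from Matrix.ext fun i k => by
    show co Bs Gi ((g : Co0) • Bs k) i = _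
    rw [co_congr (h k), fix.gram, Matrix.one_apply], Matrix.one_mulVec]

/-- The witnesses for the cycles of length three. -/
def witP (t : ℕ × ℕ × ℕ) : Equiv.Perm (Fin 9) :=
  p9 (entry t.1).2.2.2 * (p9 (cEntry t.2.1).2.2 * p9 (rEntry t.2.2).2.1)

/-- A witness is in range. -/
def witOk (t : ℕ × ℕ × ℕ) : Bool := decide (t.1 < 135) && decide (t.2.1 < 16) && decide (t.2.2 < 504)

theorem range_of_wit {t : ℕ × ℕ × ℕ} (h : witOk t = true) : ∃ g, (rho g : Equiv.Perm (Fin 9)) = witP t := by
  simp only [witOk, Bool.and_eq_true, decide_eq_true_eq] at h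
  obtain ⟨⟨h1, h2⟩, h3⟩ := h
  obtain ⟨a, -, ha, -⟩ := tree_spec _ h1
  obtain ⟨b, -, -, hb, -⟩ := gC_spec (cEntry_mem h2)
  obtain ⟨c, -, -, hc, -⟩ := gR_spec _ h3
  exact ⟨a * (b * c), rho_eq (ha.mul (hb.mul hc))⟩

theorem wit_check : ((List.finRange 9).all fun a => (List.finRange 9).all fun b => (List.finRange 9).all fun c =>
    decide (a = b ∨ b = c ∨ a = c) || (witOk (wit3.getD (81 * a.val + 9 * b.val + c.val) (0, 0, 0)) &&
      decide (witP (wit3.getD (81 * a.val + 9 * b.val + c.val) (0, 0, 0)) = Equiv.swap a b * Equiv.swap b c))) =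
    true := by decide +kernel

theorem three_cycle_form {σ : Equiv.Perm (Fin 9)} (h : σ.IsThreeCycle) :
    ∃ a b c, a ≠ b ∧ b ≠ c ∧ a ≠ c ∧ σ = Equiv.swap a b * Equiv.swap b c := by
  obtain ⟨a, ha⟩ : ∃ a, a ∈ σ.support := Finset.card_pos.1 (by rw [h.card_support]; norm_num)
  have ha' := Equiv.Perm.mem_support.1 ha
  have h3 : σ ^ 3 = 1 := by rw [← h.orderOf, pow_orderOf_eq_one]
  have hinv : σ (σ (σ a)) = a := by
    have := Equiv.congr_fun h3 a
    simpa [pow_succ, Equiv.Perm.mul_apply] using this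
  have hb : σ (σ a) ≠ σ a := fun e => ha' (σ.injective e)
  have hc : σ (σ a) ≠ a := fun e => by rw [e] at hinv; exact ha' hinv
  refine ⟨a, σ a, σ (σ a), Ne.symm ha', hb.symm, hc.symm, Equiv.ext fun x => ?_⟩
  have hsub : σ.support = {a, σ a, σ (σ a)} := by
    refine (Finset.eq_of_subset_of_card_le ?_ ?_).symm
    · intro y hy
      simp only [Finset.mem_insert, Finset.mem_singleton] at hy
      rcases hy with rfl | rfl | rfl
      · exact ha
      · exact Equiv.Perm.apply_mem_support.2 ha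
      · exact Equiv.Perm.apply_mem_support.2 (Equiv.Perm.apply_mem_support.2 ha)
    · rw [h.card_support, Finset.card_insert_of_notMem (by simp [Ne.symm ha', hc.symm]),
        Finset.card_insert_of_notMem (by simp [hb.symm]), Finset.card_singleton]
  by_cases hx : x ∈ σ.support
  · rw [hsub] at hx
    simp only [Finset.mem_insert, Finset.mem_singleton] at hx
    rcases hx with rfl | rfl | rfl
    · rw [Equiv.Perm.mul_apply, Equiv.swap_apply_of_ne_of_ne (Ne.symm ha') hc.symm, Equiv.swap_apply_left]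
    · rw [Equiv.Perm.mul_apply, Equiv.swap_apply_left, Equiv.swap_apply_of_ne_of_ne hc hb]
    · rw [hinv, Equiv.Perm.mul_apply, Equiv.swap_apply_right, Equiv.swap_apply_right]
  · rw [Equiv.Perm.notMem_support.1 hx]
    rw [hsub] at hx
    simp only [Finset.mem_insert, Finset.mem_singleton, not_or] at hx
    rw [Equiv.Perm.mul_apply, Equiv.swap_apply_of_ne_of_ne hx.2.1 hx.2.2,
      Equiv.swap_apply_of_ne_of_ne hx.1 hx.2.1]

theorem rho_surjective : Function.Surjective rho := by
  let H : Subgroup (Equiv.Perm (Fin 9)) := (Subgroup.subtype _).comp rho |>.range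
  have hle : alternatingGroup (Fin 9) ≤ H := by
    rw [← Equiv.Perm.closure_three_cycles_eq_alternating, Subgroup.closure_le]
    intro σ hσ
    obtain ⟨a, b, c, hab, hbc, hac, rfl⟩ := three_cycle_form hσ
    have h := List.all_eq_true.1 (List.all_eq_true.1 (List.all_eq_true.1 wit_check a (List.mem_finRange a)) b
      (List.mem_finRange b)) c (List.mem_finRange c)
    simp only [Bool.or_eq_true, Bool.and_eq_true, decide_eq_true_eq, hab, hbc, hac, or_self, false_or] at h
    obtain ⟨g, hg⟩ := range_of_wit h.1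
    exact ⟨g, hg.trans h.2⟩
  intro w
  obtain ⟨g, hg⟩ := hle w.2
  exact ⟨g, Subtype.ext hg⟩

theorem ker_tree : ((List.range 135).all fun i =>
    !decide (∀ j, bits ax ∈ Sset j → bits (entry i).1 ∈ Sset j) || decide ((entry i).1 = ax) ||
      !decide (Keep (p9 (entry i).2.2.2))) = true := by decide +kernel

theorem ker_stab : ((List.range 504).all fun i => (List.range 16).all fun k =>
    !decide (p9 (cEntry k).2.2 * p9 (rEntry i).2.1 = 1) ||
      (((List.range 3).any fun j => Nat.beq (rEntry i).1 (Golay.PermConj.pw g3 j)) &&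
        (Nat.beq (cEntry k).1 0 || Nat.beq (cEntry k).1 16777215))) = true := by decide +kernel

theorem rho_ker (g : Cent P0) (hg : rho g = 1) : ∃ i : ℕ, (g : Co0) = P0 ^ i ∨ (g : Co0) = negCo * P0 ^ i := by
  obtain ⟨i, hi, h, hco, hkeep, hmaps, -⟩ := decomp g
  have h1 : p9 (entry i).2.2.2 * h = 1 := by rw [← rho_eq hmaps, hg]; rfl
  have hsub : ∀ j, bits ax ∈ Sset j → bits (entry i).1 ∈ Sset j := fun j hj => by
    have h2 := hmaps j _ hj
    rwa [h1, Equiv.Perm.one_apply, ← axis_co, ← A_mulVec g (axis_fixed none), hco] at h2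
  have hax : (entry i).1 = ax := by
    have h3 := List.all_eq_true.1 ker_tree i (List.mem_range.2 hi)
    simp only [Bool.or_eq_true, Bool.not_eq_true', decide_eq_false_iff_not, decide_eq_true_eq] at h3
    refine ((h3.resolve_right ?_)).resolve_left (not_not.2 hsub)
    rw [not_not, eq_inv_of_mul_eq_one_left h1]
    exact hkeep.inv
  have hst : (g : Co0) ∈ crossStab := by
    rw [← stabC_eq_crossStab none, mem_stabC]
    exact (fix.co_inj (fixed_smul g (axis_fixed none)) (axis_fixed none)).1 (by rw [hco, hax, axis_co])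
  obtain ⟨a, ha, b, hb, hval, hm, -⟩ := exists_stab hst
  have h4 : p9 (cEntry b).2.2 * p9 (rEntry a).2.1 = 1 := by rw [← rho_eq hm, hg]; rfl
  have h5 := List.all_eq_true.1 (List.all_eq_true.1 ker_stab a (List.mem_range.2 ha)) b (List.mem_range.2 hb)
  simp only [h4, decide_true, Bool.not_true, Bool.false_or, Bool.and_eq_true, List.any_eq_true, List.mem_range,
    Bool.or_eq_true, Nat.beq_eq] at h5
  obtain ⟨⟨k, -, hk⟩, hm0⟩ := h5
  refine ⟨k, ?_⟩
  have hp : Golay.permOf (rEntry a).1 = gen ^ k := by rw [hk, (pw_spec k).2]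
  rw [show P0 ^ k = mono (pow_mem gen_mem k) empty_code from mono_pow _ k]
  rcases hm0 with hm0 | hm0
  · left
    refine ext_axis fun q => Subtype.ext ?_
    rw [hval, hm0, hp, mono_apply, pts_zero]
  · right
    refine ext_axis fun q => Subtype.ext ?_
    rw [hval, hm0, hp, mul_smul, negCo_apply, AddSubgroup.coe_neg, mono_apply,
      show Golay.pts 16777215 = Finset.univ by decide +kernel]
    funext r
    simp [signedPerm]

theorem core (N : Subgroup (alternatingGroup (Fin 9))) (hN : N.Normal) (hp : IsPGroup 2 N) : N = ⊥ := by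
  haveI : IsSimpleGroup (alternatingGroup (Fin 9)) := alternatingGroup.isSimpleGroup (by simp)
  rcases hN.eq_bot_or_eq_top with h | h
  · exact h
  · exfalso
    haveI : Fact (Nat.Prime 2) := ⟨Nat.prime_two⟩
    obtain ⟨k, hk⟩ := hp.exists_card_eq
    rw [h, Subgroup.card_top, nat_card_alternatingGroup, Nat.card_eq_fintype_card, Fintype.card_fin] at hk
    have h3 : 3 ∣ 2 ^ k := hk ▸ by decide +kernel
    exact absurd (Nat.Prime.dvd_of_dvd_pow (by norm_num) h3) (by norm_num)

theorem quot : Quot P0 Bs rho where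
  surj := rho_surjective
  gen _ := rho_fixes fun k => fix.fix k
  neg _ := rho_fixes fun k => by
    show cls (negCo • Bs k) = _
    rw [negCo_apply]; exact Baby.cls_neg _
  ker := rho_ker
  faith _ h := rho_fixes h
  core := core

end Cfsg.Agent.Spor.Leech.ThreeFix

end
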