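import Cfsg.Agent.Lib.Spor.Leech.OddFix.Joint
import Cfsg.Agent.Lib.Spor.Leech.OddFix.Fusion
import Cfsg.Agent.Lib.Spor.Leech.ThreeFix.Quot

/-!
In a group of Monster type the centraliser of an element of order three fixing two centres and not central in a Sylow
subgroup of their joint centraliser is, modulo that element, a group of Thompson type.
-/

set_option autoImplicit false
set_option maxRecDepth 100000
set_option linter.style.haveILetI false

noncomputable section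

namespace Cfsg.Agent.Spor.Leech.ThreeFix

open Cfsg Cfsg.Agent.Spor.Leech.OddFix

theorem g3_fix : Golay.pop (Golay.Census.fixMask g3) = 0 := by decide +kernel

theorem gR_nodup : (gR.map fun x => x.1).Nodup := by decide +kernel

theorem rEntry_canon : ∀ i < 504, ∃ f : ℕ → ℕ, (rEntry i).1 = Golay.pack 24 f ∧
    ∀ j < 24, Golay.get (rEntry i).1 j = f j := by
  intro i hi
  have h := List.all_eq_true.1 rtree_check i (List.mem_range.2 hi)
  by_cases h0 : i = 0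
  · rw [if_pos h0] at h
    rw [Bool.and_eq_true] at h
    exact ⟨id, Nat.eq_of_beq_eq_true h.1,
      fun j hj => by rw [Nat.eq_of_beq_eq_true h.1]; exact Golay.get_idP hj⟩
  · rw [if_neg h0] at h
    simp only [Bool.and_eq_true, Nat.beq_eq] at h
    rw [h.1.2]
    exact ⟨_, rfl, fun j hj => Golay.get_comp _ _ hj⟩

theorem card_cent : Nat.card ↥(Subgroup.centralizer ({⟨gen, gen_mem⟩} : Set ↥M24)) = 504 := by
  have hspec : ∀ i : Fin 504, ∃ n : ↥(Subgroup.centralizer ({⟨gen, gen_mem⟩} : Set ↥M24)),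
      ((n : ↥M24) : Equiv.Perm GolayPt) = Golay.permOf (rEntry i).1 := fun i => by
    obtain ⟨a, -, ha, -⟩ := gR_spec i i.2
    obtain ⟨hm, hc⟩ := cent_of_valid ha
    exact ⟨⟨⟨_, hm⟩, Subgroup.mem_centralizer_singleton_iff.2 (Subtype.ext hc)⟩, rfl⟩
  refine (Nat.card_congr (Equiv.ofBijective (fun i => (hspec i).choose) ⟨fun i j h => ?_, fun n => ?_⟩).symm).trans
    (Nat.card_fin 504)
  · have e : Golay.permOf (rEntry i).1 = Golay.permOf (rEntry j).1 := by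
      rw [← (hspec i).choose_spec, ← (hspec j).choose_spec]
      exact congrArg (fun m : ↥(Subgroup.centralizer ({⟨gen, gen_mem⟩} : Set ↥M24)) =>
        ((m : ↥M24) : Equiv.Perm GolayPt)) h
    obtain ⟨a, hva, -⟩ := gR_spec i i.2
    obtain ⟨b, hvb, -⟩ := gR_spec j j.2
    obtain ⟨f, hf, hf'⟩ := rEntry_canon i i.2
    obtain ⟨f', hg, hg'⟩ := rEntry_canon j j.2
    have e1 : (rEntry i).1 = (rEntry j).1 := by
      rw [hf, hg]
      refine Golay.Census.pack_ext 24 _ _ fun k hk => ?_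
      rw [← hf' k hk, ← hg' k hk]
      have := congrArg (fun p : Equiv.Perm GolayPt => Golay.idx (p (Golay.pt k))) e
      rwa [Golay.idx_permOf hva, Golay.idx_permOf hvb, Golay.idx_pt hk] at this
    have hi : (i : ℕ) < (gR.map fun x => x.1).length := by rw [List.length_map, lens.1]; exact i.2
    have hj : (j : ℕ) < (gR.map fun x => x.1).length := by rw [List.length_map, lens.1]; exact j.2
    refine Fin.ext ((gR_nodup.getElem_inj_iff (hi := hi) (hj := hj)).1 ?_)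
    rw [List.getElem_map, List.getElem_map]
    rw [rEntry, rEntry, List.getD_eq_getElem _ _ (lens.1.symm ▸ i.2), List.getD_eq_getElem _ _ (lens.1.symm ▸ j.2)] at e1
    exact e1
  · obtain ⟨i, hi, hin⟩ := cent_listed (n := ((n : ↥M24) : Equiv.Perm GolayPt)) (n : ↥M24).2
      (congrArg Subtype.val (Subgroup.mem_centralizer_singleton_iff.1 n.2))
    exact ⟨⟨i, hi⟩, Subtype.ext (Subtype.ext ((hspec ⟨i, hi⟩).choose_spec.trans hin))⟩

theorem fix_gen : (Finset.univ.filter fun q => gen q = q).card = 0 :=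
  (Golay.Census.fix_card g3_checks.2.1).trans g3_fix

theorem conj_gen {σ : Equiv.Perm GolayPt} (hσ : σ ∈ M24) (ho : orderOf σ = 3)
    (hfix : (Finset.univ.filter fun p => σ p = p).card = 0) : ∃ π ∈ M24, π * σ * π⁻¹ = gen := by
  obtain ⟨k, hk, hc⟩ := Golay.Census.three_classes hσ ho
  obtain ⟨l, hl, hd⟩ := Golay.Census.three_classes gen_mem order_gen
  rcases hc with ⟨hc, -⟩ | ⟨-, hc⟩
  · omega
  rcases hd with ⟨hd, -⟩ | ⟨-, hd⟩
  · rw [fix_gen] at hd; omega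
  refine ⟨l⁻¹ * k, mul_mem (inv_mem hl) hk, ?_⟩
  calc l⁻¹ * k * σ * (l⁻¹ * k)⁻¹ = l⁻¹ * (k * σ * k⁻¹) * l := by group
    _ = l⁻¹ * (l * gen * l⁻¹) * l := by rw [hc, hd]
    _ = gen := by group

/-- An element with fixed points is central in a Sylow subgroup of the Mathieu group. -/
theorem six_central (σ : ↥M24) (ho : orderOf σ = 3)
    (hfix : (Finset.univ.filter fun p => (σ : Equiv.Perm GolayPt) p = p).card ≠ 0) :
    ∃ P : Subgroup ↥M24, Nat.card P = 27 ∧ σ ∈ P ∧ ∀ x ∈ P, x * σ = σ * x := by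
  haveI : Fact (Nat.Prime 3) := ⟨Nat.prime_three⟩
  obtain ⟨S⟩ : Nonempty (Sylow 3 ↥M24) := inferInstance
  have hS : Nat.card S = 27 := by
    rw [Sylow.card_eq_multiplicity, Golay.card_M24, Nat.factorization_def _ Nat.prime_three,
      show (244823040 : ℕ) = 3 * (3 * (3 * 9067520)) by norm_num, padicValNat.mul (by norm_num) (by norm_num),
      padicValNat.mul (by norm_num) (by norm_num), padicValNat.mul (by norm_num) (by norm_num), padicValNat_self,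
      padicValNat.eq_zero_of_not_dvd (by norm_num)]
    norm_num
  haveI : Nontrivial ↥(S : Subgroup ↥M24) := Finite.one_lt_card_iff_nontrivial.1 (by rw [hS]; norm_num)
  haveI := IsPGroup.center_nontrivial S.isPGroup'
  have hd : 3 ∣ Nat.card (Subgroup.center ↥(S : Subgroup ↥M24)) := by
    obtain ⟨n, hn, e⟩ := (S.isPGroup'.to_subgroup (Subgroup.center ↥(S : Subgroup ↥M24))).nontrivial_iff_card.1
      inferInstance
    rw [e]; exact dvd_pow_self 3 hn.ne'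
  obtain ⟨c, hc⟩ := exists_prime_orderOf_dvd_card' (G := Subgroup.center ↥(S : Subgroup ↥M24)) 3 hd
  set τ : ↥M24 := ((c : ↥(S : Subgroup ↥M24)) : ↥M24) with hτ
  have hτo : orderOf (τ : Equiv.Perm GolayPt) = 3 := by
    rw [hτ, Subgroup.orderOf_coe, Subgroup.orderOf_coe, Subgroup.orderOf_coe, hc]
  have hcomm : ∀ x ∈ (S : Subgroup ↥M24), x * τ = τ * x := fun x hx =>
    congrArg Subtype.val (Subgroup.mem_center_iff.1 c.2 ⟨x, hx⟩)
  have hτf : (Finset.univ.filter fun p => (τ : Equiv.Perm GolayPt) p = p).card ≠ 0 := by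
    intro h0
    obtain ⟨π, hπ, hconj⟩ := conj_gen τ.2 hτo h0
    let π' : ↥M24 := ⟨π, hπ⟩
    have hle : (S : Subgroup ↥M24).map (MulAut.conj π').toMonoidHom ≤
        Subgroup.centralizer ({⟨gen, gen_mem⟩} : Set ↥M24) := by
      rintro _ ⟨x, hx, rfl⟩
      rw [Subgroup.mem_centralizer_singleton_iff, show (⟨gen, gen_mem⟩ : ↥M24) = π' * τ * π'⁻¹ from Subtype.ext hconj.symm]
      show π' * x * π'⁻¹ * (π' * τ * π'⁻¹) = π' * τ * π'⁻¹ * (π' * x * π'⁻¹)
      calc π' * x * π'⁻¹ * (π' * τ * π'⁻¹) = π' * (x * τ) * π'⁻¹ := by group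
        _ = _ := by rw [hcomm x hx]; group
    have h := Subgroup.card_dvd_of_le hle
    rw [Subgroup.card_map_of_injective (MulAut.conj π').injective, hS, card_cent] at h
    norm_num at h
  obtain ⟨k, hk, hck⟩ := Golay.Census.three_classes σ.2 (by rw [Subgroup.orderOf_coe, ho])
  obtain ⟨l, hl, hcl⟩ := Golay.Census.three_classes τ.2 hτo
  rcases hck with ⟨-, hck⟩ | ⟨hck, -⟩
  swap
  · exact absurd hck hfix
  rcases hcl with ⟨-, hcl⟩ | ⟨hcl, -⟩
  swap
  · exact absurd hcl hτf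
  let u : ↥M24 := ⟨k, hk⟩⁻¹ * ⟨l, hl⟩
  have hu : u * τ * u⁻¹ = σ := by
    refine Subtype.ext ?_
    simp only [u, Subgroup.coe_mul, Subgroup.coe_inv]
    calc k⁻¹ * l * (τ : Equiv.Perm GolayPt) * (k⁻¹ * l)⁻¹ = k⁻¹ * (l * (τ : Equiv.Perm GolayPt) * l⁻¹) * k := by group
      _ = k⁻¹ * (k * (σ : Equiv.Perm GolayPt) * k⁻¹) * k := by rw [hck, hcl]
      _ = σ := by group
  refine ⟨(S : Subgroup ↥M24).map (MulAut.conj u).toMonoidHom, ?_, ⟨τ, (c : ↥(S : Subgroup ↥M24)).2, hu⟩, ?_⟩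
  · rw [Subgroup.card_map_of_injective (MulAut.conj u).injective, hS]
  · rintro _ ⟨x, hx, rfl⟩
    show u * x * u⁻¹ * σ = σ * (u * x * u⁻¹)
    rw [← hu]
    calc u * x * u⁻¹ * (u * τ * u⁻¹) = u * (x * τ) * u⁻¹ := by group
      _ = _ := by rw [hcomm x hx]; group

theorem exists_norm (i : ℕ) (hi : ¬ 3 ∣ i) : ∃ g : Co0, g * P0 * g⁻¹ = P0 ^ i := by
  have hred : P0 ^ i = P0 ^ (i % 3) := by
    conv_lhs => rw [← Nat.mod_add_div i 3]
    rw [pow_add, pow_mul, P0_pow, one_pow, mul_one]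
  rw [hred]
  have h3 : i % 3 = 1 ∨ i % 3 = 2 := by omega
  rcases h3 with h | h <;> rw [h]
  · exact ⟨1, by simp⟩
  · have hg2 : gen ^ 2 = gen⁻¹ := eq_inv_of_mul_eq_one_left (by
      rw [← pow_succ]; show gen ^ 3 = 1; rw [← order_gen, pow_orderOf_eq_one])
    obtain ⟨π, hπ, hc⟩ := conj_gen (pow_mem gen_mem 2) (by rw [hg2, orderOf_inv, order_gen]) (by
      rw [hg2, show (Finset.univ.filter fun q => gen⁻¹ q = q) = Finset.univ.filter fun q => gen q = q from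
        Finset.filter_congr fun q _ => by rw [Equiv.Perm.inv_eq_iff_eq]; exact eq_comm]
      exact fix_gen)
    refine ⟨mono (inv_mem hπ) empty_code, mul_inv_eq_iff_eq_mul.2 ?_⟩
    rw [P0, mono_pow, mono_empty_mul, mono_empty_mul]
    refine ext_axis fun k => ?_
    have e : π⁻¹ * gen = gen ^ 2 * π⁻¹ := by
      rw [eq_mul_inv_iff_mul_eq, mul_assoc, inv_mul_eq_iff_eq_mul]
      exact (mul_inv_eq_iff_eq_mul.1 hc).symm
    simp only [mono_axis, Finset.notMem_empty, if_false, e]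

variable {G : Type*} [Group G] [Finite G] {z : G} {Q : Subgroup (Subgroup.centralizer ({z} : Set G))} [Q.Normal]
  {e : (Subgroup.centralizer ({z} : Set G)) ⧸ Q ≃* Cfsg.Spor.Co1} {ψ : leechLattice → Q ⧸ Subgroup.center Q}
  {b s : G}

theorem thompson (S : Setup z Q e ψ 3 P0 Bs Gi b s none) [(NT b).Normal]
    (hswap : ∃ h : G, h * z * h⁻¹ = s ∧ h * b * h⁻¹ ∈ Subgroup.zpowers b) :
    Cfsg.IsOfThompsonType (CB b ⧸ NT b) := by
  haveI := S.R_normal
  exact ⟨S.zb, S.R, inferInstance, S.setting quot hswap exists_norm (by norm_num) (by norm_num), ⟨S.iso quot⟩⟩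

/-- An element of order three of the joint centraliser that is not central has no fixed points. -/
theorem fix_zero (h : MT z Q e ψ) (hr : Rep ψ (axis none) s) (hsQ : s ∈ QG Q) (hs : IsConj z s) (hs1 : s ≠ z)
    (x : JC z s) (ho : orderOf x = 3) (hnc : ¬ Central z s (x : G)) :
    orderOf (jperm h hr x) = 3 ∧
      (Finset.univ.filter fun p => ((jperm h hr x : ↥M24) : Equiv.Perm GolayPt) p = p).card = 0 := by
  haveI : Fact (Nat.Prime 3) := ⟨Nat.prime_three⟩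
  have hx3 : x ^ 3 = 1 := by rw [← ho, pow_orderOf_eq_one]
  have hne : jperm h hr x ≠ 1 := fun e' => by
    obtain ⟨k, hk⟩ := card_ker h hr hsQ hs hs1
    have hd := Subgroup.orderOf_dvd_natCard _ (MonoidHom.mem_ker.2 e')
    rw [ho, hk] at hd
    have := (Nat.prime_dvd_prime_iff_eq Nat.prime_three Nat.prime_two).1 (Nat.prime_three.dvd_of_dvd_pow hd)
    omega
  have hord : orderOf (jperm h hr x) = 3 := orderOf_eq_prime (by rw [← map_pow, hx3, map_one]) hne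
  refine ⟨hord, ?_⟩
  by_contra hf
  obtain ⟨P, hP, hxP, hcomm⟩ := six_central _ hord hf
  exact hnc (central_of_perm h hr hsQ hs hs1 x (congrArg Subtype.val hx3) P hP hxP hcomm)

/-- The reduction for a subgroup of order three that is not central in a Sylow subgroup. -/
theorem exists_setup (hM : IsOfMonsterType z Q) (hsQ : s ∈ QG Q) (hs : IsConj z s) (hs1 : s ≠ z) (Y : Subgroup G)
    (hY : Y ≤ Subgroup.centralizer ({z, s} : Set G)) (hY3 : Nat.card Y = 3)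
    (hnc : ∀ P : Sylow 3 ↥(Subgroup.centralizer ({z, s} : Set G)),
      ¬ Y.subgroupOf (Subgroup.centralizer ({z, s} : Set G)) ≤
        (Subgroup.center ↥(P : Subgroup ↥(Subgroup.centralizer ({z, s} : Set G)))).map
          (P : Subgroup ↥(Subgroup.centralizer ({z, s} : Set G))).subtype) :
    ∃ (e : (Subgroup.centralizer ({z} : Set G)) ⧸ Q ≃* Cfsg.Spor.Co1) (ψ : leechLattice → Q ⧸ Subgroup.center Q)
      (b : G), Y = Subgroup.zpowers b ∧ Setup z Q e ψ 3 P0 Bs Gi b s none ∧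
        ∃ h : G, h * z * h⁻¹ = s ∧ h * b * h⁻¹ ∈ Subgroup.zpowers b := by
  haveI : Fact (Nat.Prime 3) := ⟨Nat.prime_three⟩
  obtain ⟨e, ψ, hψ⟩ := hM.2
  have h := MT.of_type hM hψ
  obtain ⟨y, hy⟩ := exists_prime_orderOf_dvd_card' (G := Y) 3 (by rw [hY3])
  have hyY : Subgroup.zpowers (y : G) = Y := by
    refine Subgroup.eq_of_le_of_card_ge (Subgroup.zpowers_le.2 y.2) ?_
    rw [Nat.card_zpowers, Subgroup.orderOf_coe, hy, hY3]
  have hyL : (y : G) ∈ JC z s := hY y.2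
  obtain ⟨hyz, hys⟩ := mem_JC.1 hyL
  have hoy : orderOf (y : G) = 3 := by rw [Subgroup.orderOf_coe, hy]
  have hnC : ¬ Central z s (y : G) := fun hC => by
    obtain ⟨P, hP⟩ := (central_iff_sylow (card_three h hsQ hs hs1) hyL).1 hC
    rw [hyY] at hP
    exact hnc P hP
  -- an element exchanging the centres
  obtain ⟨T⟩ : Nonempty (Sylow 3 ↥(JC z s)) := inferInstance
  obtain ⟨k, hkz, -⟩ := exists_swap h hsQ hs hs1 ((T : Subgroup ↥(JC z s)).map (JC z s).subtype) (p := 3)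
    (Subgroup.map_subtype_le _) (by
      rw [Subgroup.card_map_of_injective (Subgroup.subtype_injective _), Sylow.card_eq_multiplicity])
  obtain ⟨e₁, ψ₁, σ, hσ, hσo, h₁, hr₁, hi₁⟩ := exists_frame h hsQ hs hs1 Nat.prime_three rfl hoy hyz hys
  have hob₀ : orderOf (⟨(y : G), hyL⟩ : JC z s) = 3 := by rw [← Subgroup.orderOf_coe]; exact hoy
  obtain ⟨-, hσf⟩ := fix_zero h₁ hr₁ hsQ hs hs1 ⟨y, hyL⟩ hob₀ hnC
  have hjy : jperm h₁ hr₁ ⟨y, hyL⟩ = ⟨σ, hσ⟩ := jperm_eq h₁ hr₁ _ hσ hi₁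
  rw [hjy] at hσf
  obtain ⟨π, hπ, hconj⟩ := conj_gen hσ hσo hσf
  obtain ⟨e₂, ψ₂, b', hb'z, hgen, hob', h₂, hr₂, hi₂⟩ :=
    conj_frame h₁ hr₁ Nat.prime_three hoy hyz hσ hi₁ gen_mem hπ (j := 1) hσo order_gen (by rw [pow_one]; exact hconj)
  obtain rfl : Y = Subgroup.zpowers b' := (hgen.trans hyY).symm
  have hb'L : b' ∈ JC z s := hY (Subgroup.mem_zpowers b')
  obtain ⟨g₀, hg₀, hgk⟩ : ∃ g₀ : G, (∀ x, x ∈ JC z s → g₀ * x * g₀⁻¹ ∈ JC z s) ∧ g₀ * z * g₀⁻¹ = s := by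
    obtain ⟨g, rfl⟩ := isConj_iff.1 hs
    obtain ⟨c, hcz, hce⟩ := h.conj_centres (s := g⁻¹ * z * g) (t := g * z * g⁻¹) (by
      obtain ⟨q, hq, eq'⟩ := h.z_mem_PG hsQ
      have eq2 : g⁻¹ * z * g = q := by
        rw [← eq']; show g⁻¹ * (g * q * g⁻¹) * g = q; group
      rw [eq2]; exact hq) hsQ (isConj_iff.2 ⟨g⁻¹, by rw [inv_inv]⟩) hs (fun e' => hs1 (by
        calc g * z * g⁻¹ = g * (g⁻¹ * z * g) * g⁻¹ := by rw [e']
          _ = z := by group)) hs1
    have hcz' := Subgroup.mem_centralizer_singleton_iff.1 hcz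
    have e1 : g * c⁻¹ * z * (g * c⁻¹)⁻¹ = g * z * g⁻¹ := by
      calc g * c⁻¹ * z * (g * c⁻¹)⁻¹ = g * (c⁻¹ * (z * c)) * g⁻¹ := by group
        _ = g * z * g⁻¹ := by rw [← hcz', inv_mul_cancel_left]
    have e2 : g * c⁻¹ * (g * z * g⁻¹) * (g * c⁻¹)⁻¹ = z := by
      calc g * c⁻¹ * (g * z * g⁻¹) * (g * c⁻¹)⁻¹ = g * (c⁻¹ * (g * z * g⁻¹) * c) * g⁻¹ := by group
        _ = g * (g⁻¹ * z * g) * g⁻¹ := by
            congr 2
            calc c⁻¹ * (g * z * g⁻¹) * c = c⁻¹ * (c * (g⁻¹ * z * g) * c⁻¹) * c := by rw [hce]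
              _ = g⁻¹ * z * g := by group
        _ = z := by group
    refine ⟨g * c⁻¹, fun x hx => ?_, e1⟩
    obtain ⟨hxz, hxs⟩ := mem_JC.1 hx
    generalize g * c⁻¹ = a at e1 e2
    generalize g * z * g⁻¹ = t at e1 e2 hxs
    refine mem_JC.2 ⟨?_, ?_⟩
    · rw [← e2]
      calc a * x * a⁻¹ * (a * t * a⁻¹) = a * (x * t) * a⁻¹ := by group
        _ = a * t * a⁻¹ * (a * x * a⁻¹) := by rw [hxs]; group
    · rw [← e1]
      calc a * x * a⁻¹ * (a * z * a⁻¹) = a * (x * z) * a⁻¹ := by group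
        _ = a * z * a⁻¹ * (a * x * a⁻¹) := by rw [hxz]; group
  have hnb : ¬ Central z s b' := fun hC => hnC (by
    obtain ⟨P, hP, hc, hbP, hcomm⟩ := hC
    obtain ⟨j, hj⟩ := Subgroup.mem_zpowers_iff.1 (hgen.symm ▸ Subgroup.mem_zpowers (y : G))
    exact ⟨P, hP, hc, hj ▸ zpow_mem hbP j, fun x hx => hj ▸ ((show Commute x b' from hcomm x hx).zpow_right j).eq⟩)
  have hnx : ¬ Central z s (g₀ * b' * g₀⁻¹) := fun hC => hnb (by
    obtain ⟨P, hP, hc, hbP, hcomm⟩ := hC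
    have hinv : ∀ x ∈ JC z s, g₀⁻¹ * x * g₀ ∈ JC z s := by
      intro x hx
      have hle : (JC z s).map (MulAut.conj g₀).toMonoidHom ≤ JC z s := by
        rintro _ ⟨w, hw, rfl⟩; exact hg₀ w hw
      have heq := Subgroup.eq_of_le_of_card_ge hle
        (le_of_eq (Subgroup.card_map_of_injective (MulAut.conj g₀).injective).symm)
      rw [← heq] at hx
      obtain ⟨w, hw, rfl⟩ := hx
      show g₀⁻¹ * (g₀ * w * g₀⁻¹) * g₀ ∈ JC z s
      simpa [mul_assoc] using hw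
    refine ⟨P.map (MulAut.conj g₀⁻¹).toMonoidHom, ?_, ?_, ⟨_, hbP, ?_⟩, ?_⟩
    · rintro _ ⟨x, hx, rfl⟩
      show g₀⁻¹ * x * g₀⁻¹⁻¹ ∈ JC z s
      rw [inv_inv]; exact hinv x (hP hx)
    · rw [Subgroup.card_map_of_injective (MulAut.conj g₀⁻¹).injective, hc]
    · show g₀⁻¹ * (g₀ * b' * g₀⁻¹) * g₀⁻¹⁻¹ = b'
      group
    · rintro _ ⟨x, hx, rfl⟩
      show g₀⁻¹ * x * g₀⁻¹⁻¹ * b' = b' * (g₀⁻¹ * x * g₀⁻¹⁻¹)
      calc g₀⁻¹ * x * g₀⁻¹⁻¹ * b' = g₀⁻¹ * (x * (g₀ * b' * g₀⁻¹)) * g₀ := by group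
        _ = _ := by rw [hcomm x hx]; group)
  let b₀ : JC z s := ⟨b', hb'L⟩
  let b₁ : JC z s := ⟨g₀ * b' * g₀⁻¹, hg₀ b' hb'L⟩
  have ho0 : orderOf b₀ = 3 := by rw [← Subgroup.orderOf_coe]; exact hob'
  have ho1 : orderOf b₁ = 3 := by
    rw [← Subgroup.orderOf_coe]
    show orderOf (g₀ * b' * g₀⁻¹) = 3
    rw [← MulAut.conj_apply, MulEquiv.orderOf_eq, hob']
  obtain ⟨ho1', hf1⟩ := fix_zero h₂ hr₂ hsQ hs hs1 b₁ ho1 hnx
  obtain ⟨π', hπ', hc1⟩ := conj_gen (jperm h₂ hr₂ b₁).2 (by rw [Subgroup.orderOf_coe, ho1']) hf1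
  obtain ⟨u, hu⟩ := conj_of_perm h₂ hr₂ hsQ hs hs1 b₀ b₁ ho0 ho1 ⟨⟨π', hπ'⟩, by
    rw [jperm_eq h₂ hr₂ b₀ gen_mem hi₂]
    exact Subtype.ext hc1⟩
  obtain ⟨huz, hus⟩ := mem_JC.1 u.2
  refine ⟨e₂, ψ₂, b', rfl, ⟨h₂, Nat.prime_three, fix, hob', hb'z, hi₂, P0_pow, (mem_JC.1 hb'L).2, hsQ, hr₂, hs⟩,
    (u : G) * g₀, ?_, ?_⟩
  · calc (u : G) * g₀ * z * ((u : G) * g₀)⁻¹ = (u : G) * (g₀ * z * g₀⁻¹) * (u : G)⁻¹ := by group
      _ = s := by rw [hgk, hus, mul_inv_cancel_right]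
  · have h9 : (u : G) * (g₀ * b' * g₀⁻¹) * (u : G)⁻¹ = b' := congrArg Subtype.val hu
    rw [show (u : G) * g₀ * b' * ((u : G) * g₀)⁻¹ = (u : G) * (g₀ * b' * g₀⁻¹) * (u : G)⁻¹ by group, h9]
    exact Subgroup.mem_zpowers b'

/-- The section at an element of order three that is not central in a Sylow subgroup. -/
theorem thompson_type (hM : IsOfMonsterType z Q) (hsQ : s ∈ QG Q) (hs : IsConj z s) (hs1 : s ≠ z) (Y : Subgroup G)
    (hY : Y ≤ Subgroup.centralizer ({z, s} : Set G)) (hY3 : Nat.card Y = 3)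
    (hnc : ∀ P : Sylow 3 ↥(Subgroup.centralizer ({z, s} : Set G)),
      ¬ Y.subgroupOf (Subgroup.centralizer ({z, s} : Set G)) ≤
        (Subgroup.center ↥(P : Subgroup ↥(Subgroup.centralizer ({z, s} : Set G)))).map
          (P : Subgroup ↥(Subgroup.centralizer ({z, s} : Set G))).subtype)
    [(Y.subgroupOf (Subgroup.centralizer (Y : Set G))).Normal] :
    Cfsg.IsOfThompsonType (↥(Subgroup.centralizer (Y : Set G)) ⧸ Y.subgroupOf (Subgroup.centralizer (Y : Set G))) := by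
  obtain ⟨e, ψ, b, rfl, S, hswap⟩ := exists_setup hM hsQ hs hs1 Y hY hY3 hnc
  exact thompson S hswap

end Cfsg.Agent.Spor.Leech.ThreeFix

end
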